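import Cfsg.Agent.H381.OQ.Faith
import Cfsg.Agent.Nodes.RGDLib

/-!
# S4884, own odd characteristic: general criteria for the input (helper310)

* `Sq h n X` : the squares `n i ^ 2` are involutions (or trivial) which act on `X x` by `(-1)^⟨x, α_i^∨⟩`;
* `in_of_sq` : the input `In` from `Sq`, a generating root group datum, a commutative torus and `SLNode`;
* `slNode_of_sl2` : `SLNode` from a homomorphism `SL_2(k) → Y`.
-/

set_option autoImplicit false
set_option linter.unusedSectionVars false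

namespace Cfsg.Agent.H310.OQ

open CoxeterSystem Cfsg.Agent.ChevalleyStructure.CoxeterGeom Cfsg.Agent.Tits.Roots Cfsg.Agent.Nodes.Reps
  Cfsg.Agent.Nodes.BNOf Cfsg.Agent.Nodes.Bruhat Cfsg.Agent.H684.OQ

universe u

section gen

variable {I W : Type*} {Y : Type u} [Fintype I] [DecidableEq I] [Group W] [Group Y] {M : CoxeterMatrix I}
  {cs : CoxeterSystem M W} {A : I → I → ℤ} {h : IsCartan M A} {p : ℕ} {T : Subgroup Y} {n : I → Y}
  {X : (I → ℤ) → Subgroup Y}

/-- the squares `n i ^ 2` act on the root groups by the parity of the pairing -/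
structure Sq (cs : CoxeterSystem M W) (h : IsCartan M A) (n : I → Y) (X : (I → ℤ) → Subgroup Y) : Prop where
  four : ∀ i, (n i ^ 2) ^ 2 = 1
  even : ∀ i x, IsRoot cs h x → Even (pairing A i x) → ∀ y ∈ X x, n i ^ 2 * y = y * n i ^ 2
  odd : ∀ i x, IsRoot cs h x → ¬ Even (pairing A i x) → ∀ y ∈ X x, n i ^ 2 * y * (n i ^ 2)⁻¹ = y⁻¹

/-- no involutions in the root groups -/
theorem eq_one_of_inv [Finite W] (R : RGD cs h p T n X) (hp : p.Prime) (hp2 : p ≠ 2) {x : I → ℤ} (hx : IsRoot cs h x)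
    {y : Y} (hy : y ∈ X x) (h1 : y⁻¹ = y) : y = 1 := by
  obtain ⟨k, hk⟩ := R.pgrp' hx ⟨y, hy⟩
  have h2 : y ^ p ^ k = 1 := congrArg Subtype.val hk
  have h3 : y ^ 2 = 1 := by
    rw [pow_two]
    nth_rewrite 1 [← h1]
    exact inv_mul_cancel y
  have h4 : Nat.Coprime 2 (p ^ k) := by
    refine Nat.Coprime.pow_right k ?_
    rw [Nat.coprime_primes Nat.prime_two hp]
    exact hp2.symm
  have h5 : orderOf y ∣ 1 := by
    rw [← Nat.Coprime.gcd_eq_one h4]
    exact Nat.dvd_gcd (orderOf_dvd_of_pow_eq_one h3) (orderOf_dvd_of_pow_eq_one h2)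
  exact orderOf_eq_one_iff.1 (Nat.dvd_one.1 h5)

theorem Sq.faith [Finite W] (S : Sq cs h n X) (R : RGD cs h p T n X) (hp : p.Prime) (hp2 : p ≠ 2) :
    TWFaithful cs T n R.nsys := by
  refine H381.OQ.twFaithful_of_sq R (fun j => ⟨1, by rw [pow_one]; exact S.four j⟩) fun j x hx => ⟨fun h1 => ?_, ?_⟩
  · by_contra hodd
    apply X_ne_bot R hx
    rw [Subgroup.eq_bot_iff_forall]
    intro y hy
    refine eq_one_of_inv R hp hp2 hx hy ?_
    rw [← S.odd j x hx hodd y hy, h1 y hy, mul_inv_cancel_right]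
  · intro he
    exact S.even j x hx he

theorem pairing_sr0 (A : I → I → ℤ) (k l : I) : pairing A k (sr l) = A k l := by
  unfold pairing
  rw [Finset.sum_eq_single l]
  · rw [sr_self, mul_one]
  · intro b _ hb
    rw [sr_ne hb, mul_zero]
  · intro hk; exact absurd (Finset.mem_univ l) hk

/-- every root pairs oddly with some simple coroot -/
theorem exists_odd (cs : CoxeterSystem M W) (h : IsCartan M A) (hA : ∀ j, ∃ i, ¬ Even (A i j)) {x : I → ℤ}
    (hx : IsRoot cs h x) : ∃ i, ¬ Even (pairing A i x) := by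
  by_contra hcon
  push Not at hcon
  obtain ⟨w, j, rfl⟩ := hx
  have h1 := H381.OQ.rep_sub_mem cs h hcon w⁻¹
  rw [rep_inv_apply] at h1
  obtain ⟨i, hi⟩ := hA j
  apply hi
  have h2 := H381.OQ.even_pairing_of_mem (A := A) h1 i
  have e : sr j = (sr j - rep cs h w (sr j)) + rep cs h w (sr j) := by abel
  have h3 : Even (pairing A i (sr j)) := by
    rw [e, pairing_add]
    exact h2.add (hcon i)
  rwa [pairing_sr0] at h3

theorem Sq.noFix [Finite W] (S : Sq cs h n X) (R : RGD cs h p T n X) (hp : p.Prime) (hp2 : p ≠ 2)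
    (hA : ∀ j, ∃ i, ¬ Even (A i j)) : H69.OQ.NoFix cs h T X := by
  intro x hx u hu hc
  obtain ⟨i, hi⟩ := exists_odd cs h hA hx
  refine eq_one_of_inv R hp hp2 hx hu ?_
  have h1 : n i ^ 2 ∈ T := by
    have h1 := R.nsys.rel i i
    rw [M.diagonal, pow_one, ← pow_two] at h1
    exact h1
  rw [← S.odd i x hx hi u hu, hc (n i ^ 2) h1 ⟨1, by rw [pow_one]; exact S.four i⟩, mul_inv_cancel_right]

/-- **the input from the action of the squares** -/
theorem in_of_sq [Finite W] (R : RGD cs h p T n X) (hp : p.Prime) (hp2 : p ≠ 2)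
    (hX : Nodes.RGDLib.G1 cs h X = ⊤) (hT : ∀ a ∈ T, ∀ b ∈ T, a * b = b * a) (S : Sq cs h n X)
    (hA : ∀ j, ∃ i, ¬ Even (A i j)) (hN : ∀ i, SLNode T n X i) : In p cs h T n X where
  rgd := R
  top := by
    rw [eq_top_iff, ← hX]
    exact le_sup_right
  comm := hT
  nofix := S.noFix R hp hp2 hA
  node := hN
  faith := S.faith R hp hp2

end gen

/-! ### transport -/

section map

variable {I : Type*} {Y Y' : Type u} [Fintype I] [DecidableEq I] [Group Y] [Group Y'] {M : CoxeterMatrix I} {p : ℕ}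

theorem hasIn_of_equiv (e : Y ≃* Y') (hY : HasIn p M Y) : HasIn p M Y' := by
  obtain ⟨A, h, T, n, X, hW, hI⟩ := hY
  have hmem : ∀ (S : Subgroup Y) (g : Y'), g ∈ S.map e.toMonoidHom ↔ e.symm g ∈ S := by
    intro S g
    constructor
    · rintro ⟨s, hs, rfl⟩
      show e.symm (e s) ∈ S
      rwa [MulEquiv.symm_apply_apply]
    · intro hg
      exact ⟨_, hg, e.apply_symm_apply g⟩
  have R' := Nodes.RGDLib.rgd_map_of_injective hI.rgd e.toMonoidHom e.injective
  refine ⟨A, h, T.map e.toMonoidHom, fun i => e (n i), fun x => (X x).map e.toMonoidHom, hW, ?_⟩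
  refine ⟨R', ?_, ?_, ?_, ?_, ?_⟩
  · have h1 : (GG M.toCoxeterSystem h T X).map e.toMonoidHom =
        GG M.toCoxeterSystem h (T.map e.toMonoidHom) (fun x => (X x).map e.toMonoidHom) := by
      unfold GG RGD.Sup
      rw [Subgroup.map_sup, Subgroup.map_iSup]
    rw [← h1, hI.top, Subgroup.map_top_of_surjective _ e.surjective]
  · rintro _ ⟨a, ha, rfl⟩ _ ⟨b, hb, rfl⟩
    rw [← map_mul, hI.comm a ha b hb, map_mul]
  · rintro x hx _ ⟨u, hu, rfl⟩ hcomm
    have h1 : u = 1 := by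
      refine hI.nofix x hx u hu fun t ht ⟨k, hk⟩ => ?_
      have h2 := hcomm (e t) (Subgroup.mem_map_of_mem e.toMonoidHom ht) ⟨k, by rw [← map_pow, hk, map_one]⟩
      apply e.injective
      rw [map_mul, map_mul]
      exact h2
    rw [h1, map_one]
  · intro i
    obtain ⟨K, i1, i2, f, E, hf, hE⟩ := hI.node i
    have hiff : ∀ x : Y, (x ∈ X (sr i) ∧ x ≠ 1) ↔ (e x ∈ (X (sr i)).map e.toMonoidHom ∧ e x ≠ 1) := by
      intro x
      rw [hmem, MulEquiv.symm_apply_apply, Ne, Ne, EmbeddingLike.map_eq_one_iff]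
    refine ⟨K, i1, i2, e.toMonoidHom.comp f, ((Equiv.subtypeEquiv e.toEquiv hiff).symm).trans E,
      fun k => ⟨f k, hf k, rfl⟩, ?_⟩
    intro x
    set y := (Equiv.subtypeEquiv e.toEquiv hiff).symm x with hy
    have h2 : e y = x := congrArg Subtype.val ((Equiv.subtypeEquiv e.toEquiv hiff).apply_symm_apply x)
    obtain ⟨a, ha, b, hb, hab⟩ := hE y
    refine ⟨e a, ⟨a, ha, rfl⟩, e b, ⟨b, hb, rfl⟩, ?_⟩
    have h1 := congrArg e hab
    rw [map_mul, map_mul, map_mul, map_mul, map_mul, map_inv, h2] at h1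
    exact h1
  · intro w g hg hodd hc
    have key : ∀ ω : List I, ∃ k, Rp M.toCoxeterSystem hI.rgd.nsys (M.toCoxeterSystem.wordProd ω) k ∧
        Rp M.toCoxeterSystem R'.nsys (M.toCoxeterSystem.wordProd ω) (e k) := by
      intro ω
      induction ω with
      | nil => exact ⟨1, by rw [wordProd_nil]; exact rp_one, by rw [wordProd_nil, map_one]; exact rp_one⟩
      | cons i ω ih =>
        obtain ⟨k, h1, h2⟩ := ih
        refine ⟨n i * k, ?_, ?_⟩
        · rw [wordProd_cons]; exact (rp_simple _ _ i).mul h1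
        · rw [wordProd_cons, map_mul]; exact (rp_simple _ R'.nsys i).mul h2
    obtain ⟨ω, rfl⟩ := M.toCoxeterSystem.wordProd_surjective w
    obtain ⟨k, h1, h2⟩ := key ω
    have h3 := h2.unique hg
    rw [hmem, map_mul, map_inv, MulEquiv.symm_apply_apply] at h3
    have h4 := h1.mul_mem_right h3
    rw [mul_inv_cancel_left] at h4
    refine hI.faith _ (e.symm g) h4 hodd fun t ht ⟨k, hk⟩ => ?_
    have h5 := hc (e t) ⟨t, ht, rfl⟩ ⟨k, by rw [← map_pow, hk, map_one]⟩
    apply e.injective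
    rw [map_mul, map_mul, MulEquiv.apply_symm_apply]
    exact h5

end map

/-! ### Nodes of type `SL_2` -/

section sl2

open Matrix

variable {k : Type*} [Field k]

/-- upper unitriangular -/
def uu (t : k) : SpecialLinearGroup (Fin 2) k := ⟨!![1, t; 0, 1], by simp [Matrix.det_fin_two]⟩

/-- lower unitriangular -/
def ll (t : k) : SpecialLinearGroup (Fin 2) k := ⟨!![1, 0; t, 1], by simp [Matrix.det_fin_two]⟩

theorem val_mul (a b : SpecialLinearGroup (Fin 2) k) : (a * b).1 = a.1 * b.1 := rfl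

theorem val_one : (1 : SpecialLinearGroup (Fin 2) k).1 = !![1, 0; 0, 1] := Matrix.one_fin_two

/-- diagonal -/
def dd : kˣ →* SpecialLinearGroup (Fin 2) k where
  toFun c := ⟨!![(c : k), 0; 0, ((c⁻¹ : kˣ) : k)], by simp [Matrix.det_fin_two]⟩
  map_one' := by
    apply Subtype.ext
    rw [val_one]
    simp
  map_mul' a b := by
    apply Subtype.ext
    show _ = !![(a : k), 0; 0, ((a⁻¹ : kˣ) : k)] * !![(b : k), 0; 0, ((b⁻¹ : kˣ) : k)]
    simp [mul_comm]

/-- the standard representative of the reflection -/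
def ww : SpecialLinearGroup (Fin 2) k := ⟨!![0, 1; -1, 0], by simp [Matrix.det_fin_two]⟩

theorem uu_val (t : k) : (uu t).1 = !![1, t; 0, 1] := rfl
theorem ll_val (t : k) : (ll t).1 = !![1, 0; t, 1] := rfl
theorem ww_val : (ww : SpecialLinearGroup (Fin 2) k).1 = !![0, 1; -1, 0] := rfl
theorem dd_val (c : kˣ) : (dd c).1 = !![(c : k), 0; 0, ((c⁻¹ : kˣ) : k)] := rfl

theorem uu_zero : (uu (0 : k)) = 1 := Subtype.ext (by rw [uu_val, val_one])

theorem ww_eq : (ww : SpecialLinearGroup (Fin 2) k) = uu 1 * ll (-1) * uu 1 := by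
  apply Subtype.ext
  simp [ww_val, uu_val, ll_val]

theorem dd_eq (c : kˣ) : dd c = uu (c : k) * ll (-(c : k)⁻¹) * uu (c : k) * (uu (-1) * ll 1 * uu (-1)) := by
  apply Subtype.ext
  simp [dd_val, uu_val, ll_val]

theorem ww_sq : (ww : SpecialLinearGroup (Fin 2) k) ^ 2 = dd (-1) := by
  rw [pow_two]
  apply Subtype.ext
  simp [ww_val, dd_val]

theorem ww_sq_sq : ((ww : SpecialLinearGroup (Fin 2) k) ^ 2) ^ 2 = 1 := by
  rw [pow_two, pow_two]
  apply Subtype.ext
  simp [ww_val, Matrix.one_fin_two]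

theorem uu_mul (s t : k) : uu s * uu t = uu (s + t) := by
  apply Subtype.ext
  simp [uu_val, add_comm]

theorem ww_uu (c : kˣ) : (ww : SpecialLinearGroup (Fin 2) k) * uu ((c⁻¹ : kˣ) : k) =
    uu (-(c : k)) * dd c * ww * uu (-(c : k)) * ww := by
  apply Subtype.ext
  simp [uu_val, ww_val, dd_val]

theorem ww_conj (c : kˣ) : (ww : SpecialLinearGroup (Fin 2) k) * uu ((c⁻¹ : kˣ) : k) * ww⁻¹ =
    uu (-(c : k)) * dd c * ww * uu (-(c : k)) := by
  rw [ww_uu, mul_inv_cancel_right]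

variable {I : Type*} {Y : Type u} [Fintype I] [DecidableEq I] [Group Y] {T : Subgroup Y} {n : I → Y}
  {X : (I → ℤ) → Subgroup Y}

/-- **`SLNode` from a homomorphism of `SL_2(k)`** -/
theorem slNode_of_sl2 [Finite k] (Φ : SpecialLinearGroup (Fin 2) k →* Y) {i : I} (hn : n i = Φ ww)
    (hT : ∀ c, Φ (dd c) ∈ T) (hX : ∀ g, g ∈ X (sr i) ↔ ∃ t, g = Φ (uu t)) (hinj : ∀ t, Φ (uu t) = 1 → t = 0) :
    SLNode T n X i := by
  have hu0 : (uu (0 : k)) = 1 := uu_zero
  have hinj' : ∀ s t : k, Φ (uu s) = Φ (uu t) → s = t := by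
    intro s t h1
    have h2 : Φ (uu (s + -t)) = 1 := by
      rw [← uu_mul, map_mul, h1, ← map_mul, uu_mul, add_neg_cancel, hu0, map_one]
    have h3 := hinj _ h2
    rwa [← sub_eq_add_neg, sub_eq_zero] at h3
  let E₀ : kˣ → {x : Y // x ∈ X (sr i) ∧ x ≠ 1} := fun c =>
    ⟨Φ (uu ((c⁻¹ : kˣ) : k)), (hX _).2 ⟨_, rfl⟩, fun h1 => (c⁻¹).ne_zero (hinj _ h1)⟩
  have hE : Function.Bijective E₀ := by
    constructor
    · intro a b hab
      have h1 := hinj' _ _ (congrArg Subtype.val hab)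
      exact inv_injective (Units.ext h1)
    · rintro ⟨x, hx, hx1⟩
      obtain ⟨t, rfl⟩ := (hX _).1 hx
      have ht : t ≠ 0 := by
        rintro rfl
        exact hx1 (by rw [hu0, map_one])
      refine ⟨(Units.mk0 t ht)⁻¹, Subtype.ext ?_⟩
      show Φ (uu (((Units.mk0 t ht)⁻¹⁻¹ : kˣ) : k)) = _
      rw [inv_inv, Units.val_mk0]
  let E := (Equiv.ofBijective E₀ hE).symm
  let ε : kˣ ≃ Fin (Nat.card kˣ) := Finite.equivFin kˣ
  let i₀ : Group (Fin (Nat.card kˣ)) := ε.symm.group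
  refine ⟨Fin (Nat.card kˣ), inferInstance, inferInstance, (Φ.comp dd).comp ε.symm.mulEquiv.toMonoidHom, E.trans ε,
    fun c => hT _, fun x => ?_⟩
  set c := E x with hc
  have hx : (x : Y) = Φ (uu ((c⁻¹ : kˣ) : k)) := by
    have h1 : E₀ c = x := (Equiv.ofBijective E₀ hE).apply_symm_apply x
    exact (congrArg Subtype.val h1).symm
  refine ⟨Φ (uu (-(c : k))), (hX _).2 ⟨_, rfl⟩, Φ (uu (-(c : k))), (hX _).2 ⟨_, rfl⟩, ?_⟩
  have h1 : (((Φ.comp dd).comp ε.symm.mulEquiv.toMonoidHom) ((E.trans ε) x)) = Φ (dd c) := by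
    show Φ (dd (ε.symm (ε (E x)))) = _
    rw [Equiv.symm_apply_apply]
  rw [h1, hn, hx, ← map_mul Φ, ← map_inv Φ, ← map_mul Φ, ww_conj, map_mul Φ, map_mul Φ, map_mul Φ]

end sl2

end Cfsg.Agent.H310.OQ
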