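import Cfsg.Agent.H310.OQ.Fold
import Cfsg.Agent.Nodes.RGDTwE6

/-!
# S4884, own odd characteristic: the input for `²E₆(q)` (helper310)
-/

set_option autoImplicit false
set_option linter.unusedSectionVars false

namespace Cfsg.Agent.H310.OQ.TwE6

open CoxeterSystem Cfsg.Agent.ChevalleyStructure.CoxeterGeom Cfsg.Agent.Tits.Roots Cfsg.Agent.Nodes.Reps
  Cfsg.Agent.Nodes.BNOf Cfsg.Agent.Nodes.Bruhat Cfsg.Agent.H684.OQ Cfsg.Agent.H310.OQ
open Cfsg.Lie Cfsg.Agent.ChevalleyStructure Cfsg.Agent.ChevalleyStructure.Elts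
  Cfsg.Agent.Nodes.RGDChev Cfsg.Agent.Nodes.RGDFold Cfsg.Agent.Nodes.RGDTwE6
open Cfsg.Agent.ChevalleyStructure.TwE6Basic (posE negE sg fix n exists_frob twisted_le_fix twisted_le_iff x)
open Cfsg.Agent.ChevalleyStructure.TwE6BN (rs rs_le x_mem_rs rs_single PairOK SingleOK)

universe u

variable {K : Type u} [Field K] {q : ℕ} {φ : K →+* K}

theorem node_single [Fintype K] (hφ : ∀ x, φ x = x ^ q) (hqq : ∀ t : K, (t ^ q) ^ q = t) {i : Fin 4} {j₀ : Fin 6}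
    (hJ : J i = [j₀]) (C : SingleOK.{u} i (chevE6.simple j₀)) : NodeOK hp K J (sg φ) (twistedE6 K q) i := by
  have hr := NPerm.simple_lt hp.inList (lt_rank hp j₀)
  let F₀ : Subfield K := RingHom.eqLocusField φ (RingHom.id K)
  have hF : ∀ t : F₀, φ t.1 = t.1 := fun t => t.2
  obtain ⟨Φ, hB, hu, hl⟩ := exists_blk_single hp j₀ (k := F₀) F₀.subtype
  have hle := twisted_le_fix φ hφ hqq
  refine ⟨F₀, inferInstance, inferInstance, Φ, ?_, fun t => ?_, fun t => ?_, fun g => ?_, fun t ht => ?_⟩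
  · rw [hJ]; exact hB
  · rw [hu]
    exact C.pos_mem_G (by rw [← hφ]; exact hF t)
  · rw [hl]
    exact TwE6Basic.single_mem (by rw [← hφ]; exact hF t) C.words.2
  · rw [R_pos]
    constructor
    · rintro ⟨h1, h2⟩
      rw [C.pos] at h1
      obtain ⟨t, rfl⟩ := rs_single h1
      exact ⟨⟨t, C.fix_pos h2⟩, by rw [hu]; rfl⟩
    · rintro ⟨t, rfl⟩
      rw [hu]
      exact ⟨x_mem_rs (by rw [C.pos]; simp) _, hle (C.pos_mem_G (by rw [← hφ]; exact hF t))⟩
  · rw [hu] at ht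
    exact Subtype.ext ((xG_eq_one_iff hp.inList hr _).1 ht)

theorem node_pair [Fintype K] (hφ : ∀ x, φ x = x ^ q) (hqq : ∀ t : K, (t ^ q) ^ q = t) {i : Fin 4} {j₀ j₁ : Fin 6}
    (hJ : J i = [j₀, j₁]) (C : PairOK.{u} i (chevE6.simple j₀) (chevE6.simple j₁)) :
    NodeOK hp K J (sg φ) (twistedE6 K q) i := by
  have hr := NPerm.simple_lt hp.inList (lt_rank hp j₀)
  obtain ⟨Φ₀, hB₀, hu₀, hl₀⟩ := exists_blk_single hp j₀ (k := K) (RingHom.id K)
  obtain ⟨Φ₁, hB₁, hu₁, hl₁⟩ := exists_blk_single hp j₁ (k := K) φ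
  have hle := twisted_le_fix φ hφ hqq
  have hc : ∀ a b, Commute (Φ₀ a) (Φ₁ b) := by
    refine commute_of Φ₀ Φ₁ (fun s t => ?_) (fun s t => ?_) (fun s t => ?_) (fun s t => ?_)
    · rw [hu₀, hu₁]; exact (C.comm1 _ _).symm
    · rw [hu₀, hl₁]; exact (C.comm2 _ _).symm
    · rw [hl₀, hu₁]; exact (C.comm3 _ _).symm
    · rw [hl₀, hl₁]; exact (C.comm4 _ _).symm
  obtain ⟨Φ, hB, hΦ⟩ := hB₀.cons hp hB₁ hc
  have hu : ∀ t, Φ (uu t) = x (chevE6.simple j₀) t * x (chevE6.simple j₁) (φ t) := by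
    intro t; rw [hΦ, hu₀, hu₁]; rfl
  have hl : ∀ t, Φ (ll t) = x (chevE6.neg (chevE6.simple j₀)) t * x (chevE6.neg (chevE6.simple j₁)) (φ t) := by
    intro t; rw [hΦ, hl₀, hl₁]; rfl
  refine ⟨K, inferInstance, inferInstance, Φ, ?_, fun t => ?_, fun t => ?_, fun g => ?_, fun t ht => ?_⟩
  · rw [hJ]; exact hB
  · rw [hu, hφ]; exact C.pos_mem_G t
  · rw [hl, hφ]; exact C.neg_mem_G t
  · rw [R_pos]
    constructor
    · rintro ⟨h1, h2⟩
      obtain ⟨t, s, rfl⟩ := C.mem_pos h1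
      exact ⟨t, by rw [hu, C.fix_pos h2]⟩
    · rintro ⟨t, rfl⟩
      rw [hu]
      refine ⟨mul_mem (x_mem_rs (by rw [C.pos]; simp) _) (x_mem_rs (by rw [C.pos]; simp) _), hle ?_⟩
      rw [hφ]; exact C.pos_mem_G t
  · rw [hu] at ht
    have h1 : x (chevE6.simple j₀) t * x (chevE6.simple j₁) (φ t) =
        x (chevE6.simple j₀) 0 * x (chevE6.simple j₁) 0 := by
      rw [ht, TwE6Basic.x_zero, TwE6Basic.x_zero, mul_one]
    exact (C.x_pair_inj h1).1

theorem node [Fintype K] (hφ : ∀ x, φ x = x ^ q) (hqq : ∀ t : K, (t ^ q) ^ q = t) (i : Fin 4) :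
    NodeOK hp K J (sg φ) (twistedE6 K q) i := by
  have : i = 0 ∨ i = 1 ∨ i = 2 ∨ i = 3 := by fin_cases i <;> simp
  rcases this with rfl | rfl | rfl | rfl
  · have e : chevE6.simple ((1 : Fin 6) : ℕ) = 46 := by decide +kernel
    exact node_single hφ hqq (j₀ := 1) rfl (by rw [e]; exact TwE6BN.single0)
  · have e : chevE6.simple ((3 : Fin 6) : ℕ) = 39 := by decide +kernel
    exact node_single hφ hqq (j₀ := 3) rfl (by rw [e]; exact TwE6BN.single1)
  · have e : chevE6.simple ((2 : Fin 6) : ℕ) = 42 := by decide +kernel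
    have e' : chevE6.simple ((4 : Fin 6) : ℕ) = 37 := by decide +kernel
    exact node_pair hφ hqq (j₀ := 2) (j₁ := 4) rfl (by rw [e, e']; exact TwE6BN.pair2)
  · have e : chevE6.simple ((0 : Fin 6) : ℕ) = 56 := by decide +kernel
    have e' : chevE6.simple ((5 : Fin 6) : ℕ) = 36 := by decide +kernel
    exact node_pair hφ hqq (j₀ := 0) (j₁ := 5) rfl (by rw [e, e']; exact TwE6BN.pair3)

theorem par : ∀ i, ∀ r < chevE6.nroots, (Even (pairing A i (V chevE6 J r)) ↔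
    Even ((J i).map fun j : Fin 6 => chevE6.cartan j r).sum) := by decide +kernel

theorem cls : ∀ r < chevE6.nroots, ∀ s < chevE6.nroots, V chevE6 J r = V chevE6 J s → s ≠ r →
    s ≠ chevE6.neg r ∧ chevE6.commTerms r s = [] := by decide +kernel

/-- **the input for `²E₆(q)`** -/
theorem hasIn_twE6 {K : Type u} [Field K] [Fintype K] {q : ℕ} (hq : IsPrimePow q) (hK : Fintype.card K = q ^ 2)
    (p : ℕ) [CharP K p] (h2 : (2 : K) ≠ 0) : HasIn p CoxeterMatrix.F₄ ↥(twistedE6 K q) := by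
  obtain ⟨φ, hφ, hqq⟩ := exists_frob hq hK
  exact in_fold foldData (foldGrp hφ hqq) isCartan p h2 (by decide +kernel) (node hφ hqq) par cls

end Cfsg.Agent.H310.OQ.TwE6
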